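import Groth.Agent.TorShift.Basic
import Groth.Agent.CAlgReg.Serre

/-!
# Projective dimension along a pushout with a flatness hypothesis
-/

noncomputable section

universe u

open TensorProduct

namespace Groth.Agent.Rodicio

open Groth.Agent.CAlgReg

variable {R : Type u} [CommRing R]

theorem flat_of_exact {K F M : Type u} [AddCommGroup K] [Module R K] [AddCommGroup F] [Module R F]
    [AddCommGroup M] [Module R M] [Module.Flat R F] [Module.Flat R M] {i : K →ₗ[R] F} {π : F →ₗ[R] M}
    (hi : Function.Injective i) (he : Function.Exact i π) (hπ : Function.Surjective π) : Module.Flat R K := by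
  rw [Module.Flat.iff_rTensor_injective']
  intro J x y h
  have h1 : Function.Injective (J.subtype.rTensor F) := Module.Flat.iff_rTensor_injective'.1 inferInstance J
  refine LinearMap.lTensor_injective_of_exact_of_flat π hπ i hi he J (h1 ?_)
  rw [← LinearMap.comp_apply, ← LinearMap.comp_apply (J.subtype.rTensor F), LinearMap.rTensor_comp_lTensor,
    ← LinearMap.lTensor_comp_rTensor, LinearMap.comp_apply, LinearMap.comp_apply, h]

/-- Finite tor dimension is finite projective dimension for finite modules. -/
theorem pdLT_of_hasTorDimLE [IsNoetherianRing R] : ∀ (n : ℕ) (M : Type u) [AddCommGroup M] [Module R M]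
    [Module.Finite R M], DRing.HasTorDimLE R n M → PdLT R M (n + 1) := by
  intro n
  induction n with
  | zero =>
    intro M _ _ _ h
    have := TorShift.flat_of_hasTorDimLE_zero h
    have : Module.FinitePresentation R M := Module.finitePresentation_of_finite R M
    have := Module.Flat.projective_of_finitePresentation (R := R) (M := M)
    exact pdLT_one
  | succ n ih =>
    intro M _ _ _ h
    obtain ⟨m, g, hg⟩ := Module.Finite.exists_fin' R M
    exact pdLT_right (LinearMap.ker g).subtype g Subtype.val_injective (LinearMap.exact_subtype_ker_map g) hg
      (ih (LinearMap.ker g) (TorShift.hasTorDimLE_of_exact (i := (LinearMap.ker g).subtype) Subtype.val_injective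
        (LinearMap.exact_subtype_ker_map g) hg h))

variable (B κ E D : Type u) [CommRing B] [CommRing κ] [CommRing E] [CommRing D] [Algebra B κ] [Algebra B E]
  [Algebra κ D] [Algebra E D] [Algebra B D] [IsScalarTower B κ D] [IsScalarTower B E D]
  [Algebra.IsPushout B κ E D] [Module.Flat B E]

omit [Module.Flat B E] in
include κ in
theorem flat_ker_and_injective {K F M : Type u} [AddCommGroup K] [Module E K] [Module B K] [IsScalarTower B E K]
    [AddCommGroup F] [Module E F] [Module B F] [IsScalarTower B E F] [Module.Flat B F]
    [AddCommGroup M] [Module E M] [Module B M] [IsScalarTower B E M] [Module.Flat B M]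
    (i : K →ₗ[E] F) (g : F →ₗ[E] M) (hi : Function.Injective i) (he : Function.Exact i g)
    (hg : Function.Surjective g) : Module.Flat B K ∧ Function.Injective (i.baseChange D) ∧
      Function.Exact (i.baseChange D) (g.baseChange D) ∧ Function.Surjective (g.baseChange D) := by
  refine ⟨flat_of_exact (i := i.restrictScalars B) (π := g.restrictScalars B) hi he hg, ?_,
    by rw [LinearMap.baseChange_eq_ltensor, LinearMap.baseChange_eq_ltensor]; exact lTensor_exact D he hg,
    by rw [LinearMap.baseChange_eq_ltensor]; exact LinearMap.lTensor_surjective D hg⟩
  have hκ : Function.Injective ((i.restrictScalars B).lTensor κ) :=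
    LinearMap.lTensor_injective_of_exact_of_flat (g.restrictScalars B) hg (i.restrictScalars B) hi he κ
  have hcomm : ∀ y : κ ⊗[B] K,
      i.baseChange D ((Algebra.IsPushout.cancelBaseChange B κ E D _).symm y) =
        (Algebra.IsPushout.cancelBaseChange B κ E D _).symm ((i.restrictScalars B).lTensor κ y) := by
    intro y
    induction y using TensorProduct.induction_on with
    | zero => simp
    | add x y hx hy => simp only [map_add, hx, hy]
    | tmul c k => simp
  intro x y hxy
  obtain ⟨x', rfl⟩ := (Algebra.IsPushout.cancelBaseChange B κ E D _).symm.surjective x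
  obtain ⟨y', rfl⟩ := (Algebra.IsPushout.cancelBaseChange B κ E D _).symm.surjective y
  rw [hcomm, hcomm] at hxy
  rw [hκ ((Algebra.IsPushout.cancelBaseChange B κ E D _).symm.injective hxy)]

include κ in
/-- Base change along a pushout preserves finite projective dimension of modules flat over the bottom ring. -/
theorem pdLT_pushout : ∀ (n : ℕ) (M : Type u) [AddCommGroup M] [Module E M] [Module B M] [IsScalarTower B E M]
    [Module.Flat B M], PdLT E M (n + 1) → PdLT D (D ⊗[E] M) (n + 1) := by
  intro n
  induction n with
  | zero =>
    intro M _ _ _ _ _ h
    have := projective_of_pdLT_one h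
    exact pdLT_one
  | succ n ih =>
    intro M _ _ _ _ _ h
    let g : (M →₀ E) →ₗ[E] M := Finsupp.linearCombination E id
    have hg : Function.Surjective g := Finsupp.linearCombination_id_surjective _ M
    let i := (LinearMap.ker g).subtype
    have he := LinearMap.exact_subtype_ker_map g
    have : Module.Flat B (M →₀ E) := Module.Flat.trans B E _
    obtain ⟨hflat, hinj, hex, hsurj⟩ := flat_ker_and_injective B κ E D (K := LinearMap.ker g) i g Subtype.val_injective he hg
    exact pdLT_right _ _ hinj hex hsurj (ih (LinearMap.ker g) (pdLT_left i g Subtype.val_injective he hg h))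

end Groth.Agent.Rodicio
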