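import Groth.Agent.Unram.Descent
import Mathlib.RingTheory.Smooth.Locus

/-!
# Descent of smoothness at a point along a flat base change, essentially finite type version
-/

noncomputable section

universe u

open TensorProduct

namespace Groth.Agent.Rodicio

attribute [local instance] Algebra.TensorProduct.rightAlgebra

variable {A B T : Type u} [CommRing A] [CommRing B] [CommRing T] [Algebra A B] [Algebra A T]

theorem isSmoothAt_of_baseChange_of_flat [Algebra.EssFiniteType A B] [Module.Flat A T]
    (q' : Ideal (T ⊗[A] B)) [q'.IsPrime] [Algebra.IsSmoothAt T q'] :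
    Algebra.IsSmoothAt A (q'.under B) := by
  let B' := T ⊗[A] B
  let q := q'.under B
  let L := Localization.AtPrime q'
  let Bq := Localization.AtPrime q
  have : q'.LiesOver q := ⟨rfl⟩
  let := Localization.AtPrime.algebraOfLiesOver q q'
  have : Module.Flat B B' := Module.Flat.isBaseChange A B T B' Algebra.IsPushout.out
  have : Module.Flat B L := .trans B B' L
  have : Module.Flat Bq L :=
    (Module.flat_iff_of_isLocalization Bq q.primeCompl _).mpr ‹_›
  have : Module.FaithfullyFlat Bq L := Module.FaithfullyFlat.of_flat_of_isLocalHom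
  have hq' : (⟨q', ‹_›⟩ : PrimeSpectrum B') ∈ Algebra.smoothLocus T B' := ‹_›
  rw [Algebra.smoothLocus_eq_compl_support_inter] at hq'
  change (⟨q, inferInstance⟩ : PrimeSpectrum B) ∈ Algebra.smoothLocus A B
  rw [Algebra.smoothLocus_eq_compl_support_inter]
  refine ⟨?_, ?_⟩
  · rw [Set.mem_compl_iff, Module.notMem_support_iff]
    have h := hq'.1
    rw [Set.mem_compl_iff,
      ← (LinearEquiv.ofBijective _ (Unram.bijective_liftBaseChange_h1Cotangent (A := A) (B := B) (T := T))).support_eq,
      Module.notMem_support_iff] at h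
    let M := Algebra.H1Cotangent A B
    have h1 : Subsingleton (L ⊗[B'] (B' ⊗[B] M)) :=
      (LocalizedModule.equivTensorProduct q'.primeCompl (B' ⊗[B] M)).symm.toEquiv.subsingleton
    have h2 : Subsingleton (L ⊗[B] M) :=
      (TensorProduct.AlgebraTensorModule.cancelBaseChange B B' L L M).symm.toEquiv.subsingleton
    have h3 : Subsingleton (L ⊗[Bq] (Bq ⊗[B] M)) :=
      (TensorProduct.AlgebraTensorModule.cancelBaseChange B Bq L L M).toEquiv.subsingleton
    have h4 : Subsingleton (Bq ⊗[B] M) :=
      Module.FaithfullyFlat.lTensor_reflects_triviality Bq L _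
    exact (LocalizedModule.equivTensorProduct q.primeCompl M).toEquiv.subsingleton
  · have h := hq'.2
    rw [Module.mem_freeLocus_iff_tensor _ (Localization.AtPrime q')] at h
    rw [Module.mem_freeLocus_iff_tensor _ (Localization.AtPrime q)]
    have h1 : Module.Free L (L ⊗[B'] (B' ⊗[B] Ω[B⁄A])) :=
      Module.Free.of_equiv' h ((TensorProduct.AlgebraTensorModule.congr (LinearEquiv.refl L L)
        (KaehlerDifferential.tensorKaehlerEquiv A T B B').symm))
    have h2 : Module.Free L (L ⊗[Bq] (Bq ⊗[B] Ω[B⁄A])) :=
      Module.Free.of_equiv' h1 ((TensorProduct.AlgebraTensorModule.cancelBaseChange B B' L L _) ≪≫ₗ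
        (TensorProduct.AlgebraTensorModule.cancelBaseChange B Bq L L _).symm)
    have : Module.Flat Bq (Bq ⊗[B] Ω[B⁄A]) := Module.Flat.of_flat_tensorProduct _ _ L
    exact Module.free_of_flat_of_isLocalRing

theorem formallySmooth_of_baseChange [IsLocalRing B] [Algebra.EssFiniteType A B] [Module.Flat A T]
    (q' : Ideal (T ⊗[A] B)) [q'.IsPrime] (h : q'.under B = IsLocalRing.maximalIdeal B)
    (hT : Algebra.FormallySmooth T (Localization.AtPrime q')) : Algebra.FormallySmooth A B := by
  have : Algebra.IsSmoothAt T q' := hT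
  have hs := isSmoothAt_of_baseChange_of_flat (A := A) (B := B) (T := T) q'
  have hunit : ∀ x ∈ (q'.under B).primeCompl, IsUnit x := fun x hx =>
    IsLocalRing.notMem_maximalIdeal.1 (h ▸ hx)
  have : Algebra.FormallySmooth A (Localization.AtPrime (q'.under B)) := hs
  exact Algebra.FormallySmooth.of_equiv
    ((IsLocalization.atUnits B (S := Localization.AtPrime (q'.under B)) (q'.under B).primeCompl hunit).symm.restrictScalars A)

end Groth.Agent.Rodicio
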