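import Groth.Agent.Rodicio.Regular
import Groth.Agent.Rodicio.Descent
import Groth.Agent.CAlgJac.Field
import Mathlib.RingTheory.Smooth.Fiber

/-!
# Flat, essentially of finite type, diagonal of finite tor dimension: formally smooth
-/

noncomputable section

universe u

open TensorProduct IsLocalRing

namespace Groth.Agent.Rodicio

attribute [local instance] Algebra.TensorProduct.rightAlgebra

variable {A B : Type u} [CommRing A] [CommRing B] [Algebra A B] [IsNoetherianRing A] [IsLocalRing A]
  [IsLocalRing B] [IsLocalHom (algebraMap A B)] [Module.Flat A B] [Algebra.EssFiniteType A B]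

omit [IsLocalRing A] [IsLocalHom (algebraMap A B)] in
theorem formallySmooth_diagPoint [Algebra (B ⊗[A] B) B]
    (hmul : ∀ x y : B, algebraMap (B ⊗[A] B) B (x ⊗ₜ[A] y) = x * y)
    (h : DRing.HasFiniteTorDim (B ⊗[A] B) B) :
    Algebra.FormallySmooth (ResidueField B) (Localization.AtPrime (RingHom.ker (diagPoint A B).toRingHom)) := by
  let κ := ResidueField B
  let m := RingHom.ker (diagPoint A B).toRingHom
  let T := Localization.AtPrime m
  have : Algebra.EssFiniteType (κ ⊗[A] B) T := Algebra.EssFiniteType.of_isLocalization _ m.primeCompl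
  have : Algebra.EssFiniteType κ T := Algebra.EssFiniteType.comp κ (κ ⊗[A] B) T
  have hbij : Function.Bijective (algebraMap κ (ResidueField T)) := by
    refine ⟨RingHom.injective _, fun y => ?_⟩
    obtain ⟨x, rfl⟩ := (Ideal.bijective_algebraMap_quotient_residueField m).surjective y
    obtain ⟨d, rfl⟩ := Ideal.Quotient.mk_surjective x
    refine ⟨diagPoint A B d, ?_⟩
    rw [IsScalarTower.algebraMap_apply κ ((κ ⊗[A] B) ⧸ m) m.ResidueField]
    congr 1
    rw [IsScalarTower.algebraMap_apply κ (κ ⊗[A] B) ((κ ⊗[A] B) ⧸ m)]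
    refine (Ideal.Quotient.eq.2 ?_)
    rw [RingHom.mem_ker, map_sub, sub_eq_zero]
    exact (diagPoint A B).commutes _
  have : Algebra.FormallySmooth κ (ResidueField T) :=
    Algebra.FormallySmooth.of_equiv (AlgEquiv.ofBijective (Algebra.ofId κ (ResidueField T)) hbij)
  exact (CAlgJac.formallySmooth_iff_isRegularLocalRing_of_essFiniteType κ T).2
    (isRegularLocalRing_diagPoint hmul h)

theorem formallySmooth_fibre [Algebra (B ⊗[A] B) B]
    (hmul : ∀ x y : B, algebraMap (B ⊗[A] B) B (x ⊗ₜ[A] y) = x * y)
    (h : DRing.HasFiniteTorDim (B ⊗[A] B) B) :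
    Algebra.FormallySmooth (ResidueField A) (ResidueField A ⊗[A] B) := by
  let k := ResidueField A
  let κ := ResidueField B
  let F := k ⊗[A] B
  let e : κ ⊗[k] F ≃ₐ[κ] κ ⊗[A] B := Algebra.TensorProduct.cancelBaseChange A k κ κ B
  let m := RingHom.ker (diagPoint A B).toRingHom
  let q := m.comap e.toRingEquiv.toRingHom
  have hT := formallySmooth_diagPoint hmul h
  have hsub : (q.primeCompl).map e.toAlgHom.toRingHom.toMonoidHom = m.primeCompl := by
    ext x
    simp only [Submonoid.mem_map, Ideal.mem_primeCompl_iff, q, Ideal.mem_comap]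
    exact ⟨fun ⟨y, hy, hxy⟩ => by subst hxy; exact hy, fun hx => ⟨e.symm x, by simpa using hx, by simp⟩⟩
  have hq : Algebra.FormallySmooth κ (Localization.AtPrime q) :=
    Algebra.FormallySmooth.of_equiv
      (IsLocalization.algEquivOfAlgEquiv (Localization.AtPrime q) (Localization.AtPrime m) e hsub).symm
  have hsurjB : Function.Surjective (algebraMap B F) := by
    intro z
    induction z using TensorProduct.induction_on with
    | zero => exact ⟨0, map_zero _⟩
    | add x y hx hy => obtain ⟨a, rfl⟩ := hx; obtain ⟨b, rfl⟩ := hy; exact ⟨a + b, map_add _ _ _⟩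
    | tmul c b =>
      obtain ⟨a, rfl⟩ := residue_surjective c
      refine ⟨a • b, ?_⟩
      change (1 : k) ⊗ₜ[A] (a • b) = _
      rw [← TensorProduct.smul_tmul, Algebra.smul_def, mul_one]
      rfl
  have hdiag : ∀ b, (e (1 ⊗ₜ[k] algebraMap B F b)) = (1 : κ) ⊗ₜ[A] b := fun b => by
    change e (1 ⊗ₜ[k] ((1 : k) ⊗ₜ[A] b)) = _
    exact (Algebra.TensorProduct.cancelBaseChange_tmul A k κ κ B _ _ _).trans (by rw [one_smul])
  have hmem : ∀ b, algebraMap B F b ∈ q.under F ↔ b ∈ maximalIdeal B := fun b => by
    change diagPoint A B (e (1 ⊗ₜ[k] algebraMap B F b)) = 0 ↔ _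
    rw [hdiag, diagPoint_tmul, one_mul, residue_eq_zero_iff]
  have : Nontrivial F := ⟨1, 0, fun h10 => by
    have h2 := congrArg (fun z => diagPoint A B (e (1 ⊗ₜ[k] z))) h10
    rw [← map_one (algebraMap B F)] at h2
    simp only [hdiag, map_zero, tmul_zero] at h2
    rw [diagPoint_tmul, map_one, one_mul] at h2
    exact one_ne_zero h2⟩
  have : IsLocalRing F := IsLocalRing.of_surjective' (algebraMap B F) hsurjB
  have hmax : q.under F = maximalIdeal F := by
    refine le_antisymm (IsLocalRing.le_maximalIdeal ((q.under F).ne_top_iff_one.2 fun h1 => ?_)) fun z hz => ?_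
    · exact (maximalIdeal.isMaximal B).ne_top ((Ideal.eq_top_iff_one _).2 ((hmem 1).1 (by rwa [map_one])))
    · obtain ⟨b, rfl⟩ := hsurjB z
      refine (hmem b).2 fun hb => hz ?_
      exact hb.map _
  exact formallySmooth_of_baseChange q hmax hq

theorem exists_smooth_localization [Algebra (B ⊗[A] B) B]
    (hmul : ∀ x y : B, algebraMap (B ⊗[A] B) B (x ⊗ₜ[A] y) = x * y)
    (h : DRing.HasFiniteTorDim (B ⊗[A] B) B) :
    ∃ (C : Type u) (_ : CommRing C) (_ : Algebra A C) (_ : Algebra C B) (_ : IsScalarTower A C B)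
      (q : Ideal C) (_ : q.IsPrime), Algebra.Smooth A C ∧ IsLocalization.AtPrime B q := by
  let S := Algebra.EssFiniteType.subalgebra A B
  have : Algebra.FinitePresentation A S := Algebra.FinitePresentation.of_finiteType.1 inferInstance
  have := formallySmooth_fibre hmul h
  have hFS : Algebra.FormallySmooth A B :=
    Algebra.FormallySmooth.of_formallySmooth_residueField_tensor (P := S) (Algebra.EssFiniteType.submonoid A B)
  let q : Ideal S := (maximalIdeal B).comap (algebraMap S B)
  have hq : IsLocalization.AtPrime B q := by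
    refine IsLocalization.of_le (Algebra.EssFiniteType.submonoid A B) q.primeCompl (fun x hx hxq => ?_) (fun x hx => ?_)
    · exact hxq (Submonoid.mem_comap.1 hx)
    · exact notMem_maximalIdeal.1 hx
  have hsm : Algebra.IsSmoothAt A q := by
    change Algebra.FormallySmooth A (Localization.AtPrime q)
    exact Algebra.FormallySmooth.of_equiv ((IsLocalization.algEquiv q.primeCompl B (Localization.AtPrime q)).restrictScalars A)
  obtain ⟨f, hf, hC⟩ := Algebra.IsSmoothAt.exists_notMem_smooth (R := A) q
  let C := Localization.Away f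
  let ψ : C →ₐ[A] B := IsLocalization.liftAlgHom (M := Submonoid.powers f) (f := IsScalarTower.toAlgHom A S B) (by
    rintro ⟨_, i, rfl⟩
    change IsUnit (algebraMap S B (f ^ i))
    rw [map_pow]
    exact (notMem_maximalIdeal.1 hf).pow i)
  let : Algebra C B := ψ.toRingHom.toAlgebra
  have : IsScalarTower A C B := .of_algebraMap_eq fun a => (ψ.commutes a).symm
  have : IsScalarTower S C B := .of_algebraMap_eq fun s => (IsLocalization.lift_eq _ s).symm
  let q' : Ideal C := (maximalIdeal B).comap (algebraMap C B)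
  refine ⟨C, inferInstance, inferInstance, inferInstance, inferInstance, q', inferInstance, hC, ?_⟩
  have hloc : IsLocalization (q.primeCompl.map (algebraMap S C)) B :=
    IsLocalization.isLocalization_of_submonoid_le C B (Submonoid.powers f) q.primeCompl
      (Submonoid.powers_le.2 hf)
  refine IsLocalization.of_le (q.primeCompl.map (algebraMap S C)) q'.primeCompl ?_ (fun x hx => notMem_maximalIdeal.1 hx)
  rintro _ ⟨s, hs, rfl⟩ hq'
  exact hs (show algebraMap S B s ∈ maximalIdeal B from (IsScalarTower.algebraMap_apply S C B s) ▸ hq')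

end Groth.Agent.Rodicio
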