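import Groth.Agent.Rodicio.Basic
import Mathlib.RingTheory.TensorProduct.Maps
import Mathlib.RingTheory.IsTensorProduct

/-!
# Finite tor dimension of the diagonal: regular local ring at the diagonal point
-/

noncomputable section

universe u

open TensorProduct IsLocalRing

namespace Groth.Agent.Rodicio

section Abstract

variable {B κ E D : Type u} [CommRing B] [Field κ] [CommRing E] [CommRing D] [Algebra B κ] [Algebra B E]
  [Algebra κ D] [Algebra B D] [IsScalarTower B κ D] [Module.Flat B E]
  [IsNoetherianRing E] [IsNoetherianRing D]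

theorem isRegularLocalRing_of_pushout (g : E →ₐ[B] D) (hg : IsBaseChange κ g.toLinearMap)
    [Algebra E B] [IsScalarTower B E B] (hsurj : Function.Surjective (algebraMap E B))
    (μ : D →+* κ) (hμ : ∀ e, μ (g e) = algebraMap B κ (algebraMap E B e))
    (hJ : RingHom.ker μ ≤ Ideal.map g.toRingHom (RingHom.ker (algebraMap E B)))
    [(RingHom.ker μ).IsPrime] (h : DRing.HasFiniteTorDim E B) :
    IsRegularLocalRing (Localization.AtPrime (RingHom.ker μ)) := by
  let : Algebra E D := g.toRingHom.toAlgebra
  have : IsScalarTower B E D := .of_algebraMap_eq fun b => (g.commutes b).symm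
  have : Algebra.IsPushout B κ E D := ⟨hg⟩
  have : Module.Finite E B := Module.Finite.of_surjective (Algebra.linearMap E B) hsurj
  obtain ⟨n, hn⟩ := h
  let m := RingHom.ker μ
  let T := Localization.AtPrime m
  have h1 := CAlgReg.pdLT_baseChange (R := D) T n _
    (pdLT_pushout B κ E D n B (pdLT_of_hasTorDimLE n B hn))
  have : IsNoetherianRing T := IsLocalization.isNoetherianRing m.primeCompl T inferInstance
  -- compare with the residue field
  let M := T ⊗[D] (D ⊗[E] B)
  let x₀ : M := 1 ⊗ₜ (1 ⊗ₜ 1)
  let φ : T →ₗ[T] M := LinearMap.toSpanSingleton T M x₀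
  have hφ : Function.Surjective φ := by
    intro z
    induction z using TensorProduct.induction_on with
    | zero => exact ⟨0, map_zero _⟩
    | add x y hx hy =>
      obtain ⟨x, rfl⟩ := hx; obtain ⟨y, rfl⟩ := hy
      exact ⟨x + y, map_add _ _ _⟩
    | tmul t w =>
      induction w using TensorProduct.induction_on with
      | zero => exact ⟨0, by rw [map_zero, TensorProduct.tmul_zero]⟩
      | add x y hx hy =>
        obtain ⟨x', hx⟩ := hx; obtain ⟨y', hy⟩ := hy
        exact ⟨x' + y', by rw [map_add, hx, hy, TensorProduct.tmul_add]⟩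
      | tmul d b =>
        obtain ⟨e, rfl⟩ := hsurj b
        refine ⟨t * algebraMap D T (e • d), ?_⟩
        have e1 : d ⊗ₜ[E] algebraMap E B e = (e • d) • ((1 : D) ⊗ₜ[E] (1 : B)) := by
          rw [Algebra.algebraMap_eq_smul_one, ← TensorProduct.smul_tmul, TensorProduct.smul_tmul', smul_eq_mul,
            mul_one]
        rw [e1, ← TensorProduct.smul_tmul, Algebra.smul_def (e • d) t, mul_comm _ t]
        change (t * algebraMap D T (e • d)) • ((1 : T) ⊗ₜ[D] ((1 : D) ⊗ₜ[E] (1 : B))) = _
        exact (TensorProduct.smul_tmul' _ _ _).trans (by rw [smul_eq_mul, mul_one])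
  have hmax : maximalIdeal T ≤ LinearMap.ker φ := by
    rw [← IsLocalization.AtPrime.map_eq_maximalIdeal m, Ideal.map_le_iff_le_comap]
    refine hJ.trans (Ideal.map_le_iff_le_comap.2 fun e he => ?_)
    rw [Ideal.mem_comap, Ideal.mem_comap, LinearMap.mem_ker]
    have h0 : algebraMap E D e • ((1 : D) ⊗ₜ[E] (1 : B)) = 0 := by
      rw [TensorProduct.smul_tmul', smul_eq_mul, mul_one, Algebra.algebraMap_eq_smul_one, TensorProduct.smul_tmul,
        ← Algebra.algebraMap_eq_smul_one, RingHom.mem_ker.1 he, TensorProduct.tmul_zero]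
    change φ (algebraMap D T (algebraMap E D e)) = 0
    change algebraMap D T (algebraMap E D e) • ((1 : T) ⊗ₜ[D] ((1 : D) ⊗ₜ[E] (1 : B))) = 0
    rw [algebraMap_smul, ← TensorProduct.tmul_smul, h0, TensorProduct.tmul_zero]
  -- the module is nonzero
  have hne : x₀ ≠ 0 := by
    let : Algebra E κ := ((algebraMap B κ).comp (algebraMap E B)).toAlgebra
    have : IsScalarTower E B κ := .of_algebraMap_eq fun _ => rfl
    let : Algebra D κ := μ.toAlgebra
    have : IsScalarTower E D κ := .of_algebraMap_eq fun e => (hμ e).symm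
    let ν : D ⊗[E] B →ₐ[D] κ := Algebra.TensorProduct.lift (Algebra.ofId D κ) (IsScalarTower.toAlgHom E B κ)
      fun _ _ => Commute.all _ _
    have hu : ∀ y : m.primeCompl, IsUnit (algebraMap D κ y) := fun y => Ne.isUnit y.2
    let : Algebra T κ := (IsLocalization.lift hu).toAlgebra
    have : IsScalarTower D T κ := .of_algebraMap_eq fun d => (IsLocalization.lift_eq hu d).symm
    intro h0
    have := congrArg (Algebra.TensorProduct.lift (Algebra.ofId T κ) ν fun _ _ => Commute.all _ _) h0
    simp [x₀, ν] at this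
  have hker : LinearMap.ker φ = maximalIdeal T :=
    ((maximalIdeal.isMaximal T).eq_of_le (fun htop => hne (by
      have h2 : φ 1 = 0 := LinearMap.mem_ker.1 (htop ▸ Submodule.mem_top)
      simpa [φ] using h2)) hmax).symm
  exact CAlgReg.isRegularLocalRing_of_pdLT (CAlgReg.pdLT_congr
    ((φ.quotKerEquivOfSurjective hφ).symm ≪≫ₗ Submodule.quotEquivOfEq _ _ hker) h1)

end Abstract

variable {A B : Type u} [CommRing A] [CommRing B] [Algebra A B] [IsLocalRing B]

/-- The evaluation `κ ⊗ B → κ` at the closed point. -/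
def diagPoint (A B : Type u) [CommRing A] [CommRing B] [Algebra A B] [IsLocalRing B] :
    ResidueField B ⊗[A] B →ₐ[ResidueField B] ResidueField B :=
  Algebra.TensorProduct.lift (AlgHom.id _ _) (IsScalarTower.toAlgHom A B (ResidueField B))
    fun _ _ => Commute.all _ _

@[simp] lemma diagPoint_tmul (c : ResidueField B) (b : B) :
    diagPoint A B (c ⊗ₜ b) = c * residue B b := by
  simp [diagPoint]

lemma diagPoint_surjective : Function.Surjective (diagPoint A B) :=
  fun c => ⟨c ⊗ₜ 1, by simp⟩

instance : (RingHom.ker (diagPoint A B).toRingHom).IsMaximal :=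
  RingHom.ker_isMaximal_of_surjective _ diagPoint_surjective

variable [Module.Flat A B] [IsNoetherianRing A] [Algebra.EssFiniteType A B]

theorem isRegularLocalRing_diagPoint [Algebra (B ⊗[A] B) B]
    (hmul : ∀ x y : B, algebraMap (B ⊗[A] B) B (x ⊗ₜ[A] y) = x * y)
    (h : DRing.HasFiniteTorDim (B ⊗[A] B) B) :
    IsRegularLocalRing (Localization.AtPrime (RingHom.ker (diagPoint A B).toRingHom)) := by
  have : IsNoetherianRing B := Algebra.EssFiniteType.isNoetherianRing A B
  have : Algebra.EssFiniteType A (B ⊗[A] B) := Algebra.EssFiniteType.comp A B _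
  have : IsNoetherianRing (B ⊗[A] B) := Algebra.EssFiniteType.isNoetherianRing A _
  have : IsNoetherianRing (ResidueField B ⊗[A] B) := Algebra.EssFiniteType.isNoetherianRing (ResidueField B) _
  have : IsScalarTower B (B ⊗[A] B) B := .of_algebraMap_eq fun b => by
    change b = algebraMap (B ⊗[A] B) B (b ⊗ₜ 1); rw [hmul, mul_one]
  let g : B ⊗[A] B →ₐ[B] ResidueField B ⊗[A] B :=
    Algebra.TensorProduct.map (IsScalarTower.toAlgHom B B (ResidueField B)) (AlgHom.id A B)
  have hgt : ∀ x y : B, g (x ⊗ₜ y) = residue B x ⊗ₜ y := fun x y => rfl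
  refine isRegularLocalRing_of_pushout g ?_ (fun b => ⟨b ⊗ₜ 1, by rw [hmul, mul_one]⟩) _ ?_ ?_ h
  · refine IsBaseChange.of_comp (TensorProduct.isBaseChange A B B) ?_
    exact TensorProduct.isBaseChange A B (ResidueField B)
  · intro e
    induction e using TensorProduct.induction_on with
    | zero => simp
    | add x y hx hy => simp only [map_add, hx, hy]
    | tmul x y =>
      change diagPoint A B (g (x ⊗ₜ y)) = residue B _
      rw [hgt, diagPoint_tmul, hmul, map_mul]
  · intro x hx
    have hJ : ∀ x : ResidueField B ⊗[A] B, x - algebraMap (ResidueField B) _ (diagPoint A B x) ∈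
        Ideal.map g.toRingHom (RingHom.ker (algebraMap (B ⊗[A] B) B)) := by
      intro x
      induction x using TensorProduct.induction_on with
      | zero => simp
      | add x y hx hy =>
        convert add_mem hx hy using 1
        rw [map_add, map_add]; abel
      | tmul c b =>
        have hb : (1 : B) ⊗ₜ[A] b - b ⊗ₜ 1 ∈ RingHom.ker (algebraMap (B ⊗[A] B) B) := by
          rw [RingHom.mem_ker, map_sub, hmul, hmul, one_mul, mul_one, sub_self]
        convert Ideal.mul_mem_left _ ((c ⊗ₜ 1 : ResidueField B ⊗[A] B)) (Ideal.mem_map_of_mem g.toRingHom hb) using 1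
        change _ = _ * g ((1 : B) ⊗ₜ[A] b - b ⊗ₜ 1)
        rw [map_sub g, hgt, hgt, diagPoint_tmul, mul_sub, Algebra.TensorProduct.tmul_mul_tmul,
          Algebra.TensorProduct.tmul_mul_tmul, map_one, mul_one, one_mul, one_mul]
        rfl
    have := hJ x
    rwa [show diagPoint A B x = 0 from hx, map_zero, sub_zero] at this

end Groth.Agent.Rodicio
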